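import Mathlib

/-! Quotients of a finite module by a power of a maximal ideal are Artinian. -/

namespace GrothLib.LunaFin

theorem isArtinian_of_pow_smul {R : Type*} [CommRing R] [IsNoetherianRing R] (m : Ideal R) [hm : m.IsMaximal]
    {M : Type*} [AddCommGroup M] [Module R M] [Module.Finite R M]
    {N : ℕ} (h : ∀ a ∈ m ^ N, ∀ x : M, a • x = 0) : IsArtinian R M := by
  letI : Module (R ⧸ m ^ N) M :=
    Module.IsTorsionBySet.module (I := m ^ N) fun x a => h a.1 a.2 x
  haveI : IsScalarTower R (R ⧸ m ^ N) M := Module.IsTorsionBySet.isScalarTower _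
  haveI : IsArtinianRing (R ⧸ m ^ N) := by
    refine isArtinianRing_iff_isNoetherianRing_krullDimLE_zero.2
      ⟨inferInstance, Ring.krullDimLE_zero_iff.2 fun P hP => ?_⟩
    have h1 : m ≤ P.comap (Ideal.Quotient.mk (m ^ N)) := by
      intro y hy
      haveI : (P.comap (Ideal.Quotient.mk (m ^ N))).IsPrime := Ideal.IsPrime.comap _
      refine this.mem_of_pow_mem N (Ideal.mem_comap.2 ?_)
      rw [(Ideal.Quotient.eq_zero_iff_mem.2 (Ideal.pow_mem_pow hy N))]
      exact zero_mem _
    have h2 := hm.eq_of_le (Ideal.IsPrime.comap _).ne_top h1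
    haveI : (P.comap (Ideal.Quotient.mk (m ^ N))).IsMaximal := h2 ▸ hm
    exact Ideal.isMaximal_of_isIntegral_of_isMaximal_comap' _ (RingHom.IsIntegral.of_finite
      (RingHom.Finite.of_surjective _ Ideal.Quotient.mk_surjective)) P this
  have hsurj : Function.Surjective (algebraMap R (R ⧸ m ^ N)) := Ideal.Quotient.mk_surjective
  haveI : Module.Finite (R ⧸ m ^ N) M := Module.Finite.of_restrictScalars_finite R _ M
  exact isArtinian_of_surjective_algebraMap hsurj

theorem isArtinian_quot_pow {R : Type*} [CommRing R] [IsNoetherianRing R] (I : Ideal R) [I.IsMaximal]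
    {M : Type*} [AddCommGroup M] [Module R M] [Module.Finite R M] (j : ℕ) :
    IsArtinian R (M ⧸ (I ^ j • ⊤ : Submodule R M)) :=
  have h : ∀ a ∈ I ^ j, ∀ y : M ⧸ (I ^ j • ⊤ : Submodule R M), a • y = 0 := fun a ha y => by
    obtain ⟨y, rfl⟩ := Submodule.Quotient.mk_surjective _ y
    rw [← Submodule.Quotient.mk_smul, Submodule.Quotient.mk_eq_zero]
    exact Submodule.smul_mem_smul ha Submodule.mem_top
  isArtinian_of_pow_smul I h

end GrothLib.LunaFin
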