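import Groth.Agent.Lib.HopfAG.LRCoh
import Groth.Agent.Lib.Comod.Semi
import Groth.Agent.Lib.Hopf.Antipode
import Groth.Prelude.Def_GLin
import Mathlib.RingTheory.Polynomial.Basic
import Mathlib.RingTheory.FiniteType

/-!
# Finite generation of invariants over a Noetherian base
-/

universe u v w w'

open TensorProduct HopfRep GLin

namespace GrothLib.LunaFin

variable {k : Type u} [Field k] {H : Type v} [CommRing H] [HopfAlgebra k H] (α : H →ₗ[k] k)

local notation "ρ" => (HopfRep.Comod.coact (k := k) (A := H))

/-- averaging by an invariant form -/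
noncomputable def rey (V : Type w) [AddCommGroup V] [Module k V] [Comod k H V] : V →ₗ[k] V :=
  (TensorProduct.rid k V).toLinearMap ∘ₗ (α ∘ₗ HopfAlgebraStruct.antipode k).lTensor V ∘ₗ ρ

theorem rey_apply {V : Type w} [AddCommGroup V] [Module k V] [Comod k H V] (x : V) :
    rey α V x = TensorProduct.rid k V ((α ∘ₗ HopfAlgebraStruct.antipode k).lTensor V (ρ x)) := rfl

theorem rey_coact (hα : GrothLib.Comodule.IsInvariant α) {V : Type w} [AddCommGroup V] [Module k V]
    [Comod k H V] (x : V) : ρ (rey α V x) = rey α V x ⊗ₜ[k] (1 : H) := by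
  let φ : H →ₗ[k] k := α ∘ₗ HopfAlgebraStruct.antipode k
  have hφ : ∀ a : H, TensorProduct.rid k H (φ.lTensor H (Coalgebra.comul (R := k) a)) = φ a • (1 : H) := by
    intro a
    have h := hα (HopfAlgebraStruct.antipode k a)
    rw [GrothLib.Hopf.comul_antipode] at h
    have h1 : ∀ t : H ⊗[k] H, HopfAlgebraStruct.antipode k (TensorProduct.lid k H (α.rTensor H
        (TensorProduct.map (HopfAlgebraStruct.antipode k) (HopfAlgebraStruct.antipode k) (TensorProduct.comm k H H t)))) =
        TensorProduct.rid k H (φ.lTensor H t) := fun t => by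
      induction t using TensorProduct.induction_on with
      | zero => simp
      | add p q hp hq => simp only [map_add, hp, hq]
      | tmul p q => simp [φ, GrothLib.Hopf.antipode_antipode]
    rw [← h1, h, map_smul, HopfAlgebra.antipode_one]
    rfl
  have h2 : ∀ t : V ⊗[k] H, ρ (TensorProduct.rid k V (φ.lTensor V t)) =
      TensorProduct.rid k (V ⊗[k] H) (φ.lTensor (V ⊗[k] H) ((ρ).rTensor H t)) := fun t => by
    induction t using TensorProduct.induction_on with
    | zero => simp
    | add p q hp hq => simp only [map_add, hp, hq]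
    | tmul p q => simp
  have h3 : ∀ t : V ⊗[k] H, TensorProduct.rid k (V ⊗[k] H) (φ.lTensor (V ⊗[k] H)
      ((TensorProduct.assoc k V H H).symm ((CoalgebraStruct.comul (R := k) (A := H)).lTensor V t))) =
      TensorProduct.rid k V (φ.lTensor V t) ⊗ₜ[k] (1 : H) := fun t => by
    induction t using TensorProduct.induction_on with
    | zero => simp
    | add p q hp hq => simp only [map_add, TensorProduct.add_tmul, hp, hq]
    | tmul p q =>
      have h4 : ∀ s : H ⊗[k] H, TensorProduct.rid k (V ⊗[k] H) (φ.lTensor (V ⊗[k] H)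
          ((TensorProduct.assoc k V H H).symm (p ⊗ₜ[k] s))) = p ⊗ₜ[k] TensorProduct.rid k H (φ.lTensor H s) := fun s => by
        induction s using TensorProduct.induction_on with
        | zero => simp
        | add a b ha hb => simp only [map_add, TensorProduct.tmul_add, ha, hb]
        | tmul a b => simp [TensorProduct.tmul_smul]
      rw [LinearMap.lTensor_tmul, h4, hφ, LinearMap.lTensor_tmul, TensorProduct.rid_tmul,
        TensorProduct.smul_tmul]
  rw [rey_apply, h2, show (ρ).rTensor H (ρ x) = (TensorProduct.assoc k V H H).symm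
    ((CoalgebraStruct.comul (R := k) (A := H)).lTensor V (ρ x)) by
      rw [LinearEquiv.eq_symm_apply]; exact LinearMap.congr_fun (Comod.coassoc (k := k) (A := H) (V := V)) x]
  exact h3 _

theorem rey_fixed (h1 : α 1 = 1) {V : Type w} [AddCommGroup V] [Module k V] [Comod k H V] {x : V}
    (hx : ρ x = x ⊗ₜ[k] (1 : H)) : rey α V x = x := by
  rw [rey_apply, hx, LinearMap.lTensor_tmul, LinearMap.comp_apply, HopfAlgebra.antipode_one, h1,
    TensorProduct.rid_tmul, one_smul]

theorem rey_mem_sub {V : Type w} [AddCommGroup V] [Module k V] [Comod k H V] {U : Submodule k V}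
    (hU : IsSubcomod (k := k) (A := H) U) {x : V} (hx : x ∈ U) : rey α V x ∈ U := by
  obtain ⟨y, hy⟩ := hU x hx
  rw [rey_apply, ← hy]
  clear hy
  induction y using TensorProduct.induction_on with
  | zero => simp
  | add p q hp hq => simp only [map_add]; exact add_mem hp hq
  | tmul p q => simp only [LinearMap.rTensor_tmul, LinearMap.lTensor_tmul, TensorProduct.rid_tmul]; exact U.smul_mem _ p.2

theorem rey_natural {V : Type w} [AddCommGroup V] [Module k V] [Comod k H V] {W : Type w'} [AddCommGroup W]
    [Module k W] [Comod k H W] {f : V →ₗ[k] W} (hf : Hoch.IsComodHom H f) (x : V) :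
    rey α W (f x) = f (rey α V x) := by
  rw [rey_apply, rey_apply, GrothLib.Comodule.IsComodHom.apply hf]
  induction ρ x using TensorProduct.induction_on with
  | zero => simp
  | add p q hp hq => simp only [map_add, hp, hq]
  | tmul p q => simp

theorem rey_mul {C : Type w} [CommRing C] [Algebra k C] [Comod k H C] [IsCoactAlg k H C] {c : C}
    (hc : c ∈ invariants k H C) (x : C) : rey α C (x * c) = rey α C x * c := by
  rw [rey_apply, rey_apply, IsCoactAlg.coact_mul, show ρ c = c ⊗ₜ[k] (1 : H) from hc]
  induction ρ x using TensorProduct.induction_on with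
  | zero => simp
  | add p q hp hq => simp only [map_add, add_mul, hp, hq]
  | tmul p q => simp

theorem isSubcomod_mul {C : Type w} [CommRing C] [Algebra k C] [Comod k H C] [IsCoactAlg k H C]
    {U V : Submodule k C} (hU : IsSubcomod (k := k) (A := H) U) (hV : IsSubcomod (k := k) (A := H) V) :
    IsSubcomod (k := k) (A := H) (U * V) := by
  intro x hx
  induction hx using Submodule.mul_induction_on' with
  | mem_mul_mem a ha b hb =>
    obtain ⟨p, hp⟩ := hU a ha
    obtain ⟨q, hq⟩ := hV b hb
    rw [IsCoactAlg.coact_mul, ← hp, ← hq]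
    clear hp hq
    induction p using TensorProduct.induction_on with
    | zero => simp
    | add s t hs ht => simp only [map_add, add_mul]; exact add_mem hs ht
    | tmul u g =>
      induction q using TensorProduct.induction_on with
      | zero => simp
      | add s t hs ht => simp only [map_add, mul_add]; exact add_mem hs ht
      | tmul v g' =>
        exact ⟨(⟨(u : C) * v, Submodule.mul_mem_mul u.2 v.2⟩ : ↥(U * V)) ⊗ₜ[k] (g * g'), by simp⟩
  | add a _ b _ ha hb => rw [map_add]; exact add_mem ha hb

/-- invariants of an equivariant algebra of finite type are of finite type over the invariants -/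
theorem exists_adjoin (hG : IsLinearlyReductive k H)
    {A : Type w} [CommRing A] [Algebra k A] [IsNoetherianRing A] [Comod k H A] [IsCoactAlg k H A]
    {C : Type w'} [CommRing C] [Algebra k C] [Comod k H C] [IsCoactAlg k H C]
    [Algebra A C] [IsScalarTower k A C] [Algebra.FiniteType A C]
    (hAC : Hoch.IsComodHom H (IsScalarTower.toAlgHom k A C).toLinearMap) :
    ∃ s : Finset C, invariants k H C =
      Algebra.adjoin k (⇑(algebraMap A C) '' ↑(invariants k H A) ∪ ↑s) := by
  classical
  obtain ⟨α, hα, h1⟩ := GrothLib.LRCoh.exists_integral hG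
  obtain ⟨g, hg⟩ := (Algebra.FiniteType.out : (⊤ : Subalgebra A C).FG)
  choose U hUfin hUmem hUsub using fun v : g =>
    GrothLib.Comodule.exists_finite_subcomod (k := k) (C := H) (V := C) (v : C)
  let W : Submodule k C := ⨆ v, U v
  have hW : IsSubcomod (k := k) (A := H) W := GrothLib.Comodule.isSubcomod_iSup hUsub
  haveI : Module.Finite k W := by
    haveI := hUfin
    exact Submodule.finite_iSup U
  obtain ⟨wg, hwg⟩ := Module.Finite.iff_fg.1 (inferInstance : Module.Finite k W)
  let Ai : Submodule k C := LinearMap.range (IsScalarTower.toAlgHom k A C).toLinearMap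
  let N : ℕ → Submodule k C := fun d => Ai * W ^ d
  have hAi : IsSubcomod (k := k) (A := H) Ai := GrothLib.Comodule.IsComodHom.range_isSubcomod hAC
  have hN : ∀ d, IsSubcomod (k := k) (A := H) (N d) := by
    intro d
    induction d with
    | zero => simpa [N] using hAi
    | succ d ih =>
      show IsSubcomod (k := k) (A := H) (Ai * W ^ (d + 1))
      rw [pow_succ, ← mul_assoc]
      exact isSubcomod_mul ih hW
  have hmul : ∀ i j : ℕ, ∀ a ∈ N i, ∀ b ∈ N j, a * b ∈ N (i + j) := by
    intro i j a ha b hb
    have h := Submodule.mul_mem_mul ha hb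
    have hle : N i * N j ≤ N (i + j) := by
      show Ai * W ^ i * (Ai * W ^ j) ≤ Ai * W ^ (i + j)
      rw [mul_mul_mul_comm, ← pow_add]
      refine mul_le_mul' (Submodule.mul_le.2 ?_) le_rfl
      rintro _ ⟨a, rfl⟩ _ ⟨b, rfl⟩
      exact ⟨a * b, map_mul (IsScalarTower.toAlgHom k A C) a b⟩
    exact hle h
  have hN0 : ∀ a : A, algebraMap A C a ∈ N 0 := fun a => by
    show _ ∈ Ai * W ^ 0
    rw [pow_zero, mul_one]
    exact ⟨a, rfl⟩
  have hN1 : ∀ v ∈ W, v ∈ N 1 := fun v hv => by
    show _ ∈ Ai * W ^ 1
    rw [pow_one, ← one_mul v]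
    exact Submodule.mul_mem_mul ⟨1, map_one (IsScalarTower.toAlgHom k A C)⟩ hv
  -- the graded algebra
  let gens : Finset (Polynomial C) := wg.image fun v => Polynomial.C v * Polynomial.X
  let P : Subalgebra A (Polynomial C) := Algebra.adjoin A (gens : Set (Polynomial C))
  haveI : Algebra.FiniteType A P := (Subalgebra.fg_iff_finiteType P).1 (Subalgebra.fg_adjoin_finset gens)
  haveI : IsNoetherianRing P := Algebra.FiniteType.isNoetherianRing A P
  have hcoef : ∀ p ∈ P, ∀ d, (p : Polynomial C).coeff d ∈ N d := by
    intro p hp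
    induction hp using Algebra.adjoin_induction with
    | mem p hp =>
      obtain ⟨v, hv, rfl⟩ := Finset.mem_image.1 hp
      intro d
      rw [Polynomial.coeff_C_mul_X]
      split_ifs with hd
      · subst hd; exact hN1 _ (hwg ▸ Submodule.subset_span hv)
      · exact zero_mem _
    | algebraMap r =>
      intro d
      rw [Polynomial.algebraMap_apply, Polynomial.coeff_C]
      split_ifs with hd
      · subst hd; exact hN0 r
      · exact zero_mem _
    | add p q _ _ hp hq => intro d; rw [Polynomial.coeff_add]; exact add_mem (hp d) (hq d)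
    | mul p q _ _ hp hq =>
      intro d
      rw [Polynomial.coeff_mul]
      refine Submodule.sum_mem _ fun ij hij => ?_
      rw [← Finset.mem_antidiagonal.1 hij]
      exact hmul _ _ _ (hp _) _ (hq _)
  have hmon : ∀ d, ∀ a ∈ N d, Polynomial.monomial d a ∈ P := by
    intro d
    induction d with
    | zero =>
      intro a ha
      change a ∈ Ai * W ^ 0 at ha
      rw [pow_zero, mul_one] at ha
      obtain ⟨r, rfl⟩ := ha
      have h := P.algebraMap_mem r
      rw [Polynomial.algebraMap_apply] at h
      exact h
    | succ d ih =>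
      intro a ha
      change a ∈ Ai * W ^ (d + 1) at ha
      rw [pow_succ, ← mul_assoc] at ha
      induction ha using Submodule.mul_induction_on' with
      | mem_mul_mem b hb v hv =>
        rw [← Polynomial.monomial_mul_monomial d 1 b v]
        refine P.mul_mem (ih b hb) ?_
        rw [← hwg] at hv
        induction hv using Submodule.span_induction with
        | mem v hv =>
          rw [← Polynomial.C_mul_X_eq_monomial]
          exact Algebra.subset_adjoin (Finset.mem_image.2 ⟨v, hv, rfl⟩)
        | zero => simp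
        | add x y _ _ hx hy => rw [map_add]; exact P.add_mem hx hy
        | smul c x _ hx =>
          rw [← Polynomial.smul_monomial, ← IsScalarTower.algebraMap_smul A c]
          exact P.smul_mem hx _
      | add x _ y _ hx hy => rw [map_add]; exact P.add_mem hx hy
  -- generators of the invariants
  let T : Set (ℕ × C) := {da | 0 < da.1 ∧ da.2 ∈ N da.1 ∧ da.2 ∈ invariants k H C}
  let mk : T → P := fun t => ⟨Polynomial.monomial t.1.1 t.1.2, hmon _ _ t.2.2.1⟩
  obtain ⟨F, hFsub, hF⟩ := (Submodule.fg_span_iff_fg_span_finset_subset (Set.range mk)).1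
    (IsNoetherian.noetherian (Ideal.span (Set.range mk)))
  choose t ht using fun e : F => hFsub e.2
  let s : Finset C := Finset.univ.image fun e : F => (t e).1.2
  refine ⟨s, le_antisymm ?_ (Algebra.adjoin_le ?_)⟩
  swap
  · rintro c (⟨a, ha, rfl⟩ | hc)
    · show ρ _ = _
      rw [show algebraMap A C a = (IsScalarTower.toAlgHom k A C).toLinearMap a from rfl,
        GrothLib.Comodule.IsComodHom.apply hAC, show ρ a = a ⊗ₜ[k] (1 : H) from ha, LinearMap.rTensor_tmul]
    · obtain ⟨e, -, rfl⟩ := Finset.mem_image.1 hc
      exact (t e).2.2.2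
  intro c hc
  set S := Algebra.adjoin k (⇑(algebraMap A C) '' ↑(invariants k H A) ∪ ↑s)
  have hrey : ∀ x : C, rey α C x ∈ invariants k H C := fun x => rey_coact α hα x
  have main : ∀ d, ∀ a ∈ N d, a ∈ invariants k H C → a ∈ S := by
    intro d
    induction d using Nat.strong_induction_on with
    | _ d ih =>
      intro a ha hai
      rcases Nat.eq_zero_or_pos d with rfl | hd
      · change a ∈ Ai * W ^ 0 at ha
        rw [pow_zero, mul_one] at ha
        obtain ⟨r, rfl⟩ := ha
        rw [← rey_fixed α h1 hai, rey_natural α hAC]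
        exact Algebra.subset_adjoin (Or.inl ⟨_, rey_coact α hα r, rfl⟩)
      have hmem : mk ⟨(d, a), hd, ha, hai⟩ ∈ Submodule.span P (F : Set P) :=
        hF ▸ Submodule.subset_span ⟨_, rfl⟩
      obtain ⟨q, hq⟩ := (Submodule.mem_span_finset' (R := P) (s := F)).1 hmem
      have hq' := congrArg (fun p : P => (p : Polynomial C).coeff d) hq
      simp only [mk, Polynomial.coeff_monomial, if_true, AddSubmonoidClass.coe_finset_sum,
        Polynomial.finset_sum_coeff] at hq'
      rw [← rey_fixed α h1 hai, ← hq', map_sum]
      refine S.sum_mem fun e _ => ?_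
      rw [smul_eq_mul, MulMemClass.coe_mul, ← ht e]
      show rey α C (((q e : Polynomial C) * Polynomial.monomial (t e).1.1 (t e).1.2).coeff d) ∈ S
      by_cases hle : (t e).1.1 ≤ d
      · rw [show ((q e : Polynomial C) * Polynomial.monomial (t e).1.1 (t e).1.2).coeff d =
            (q e : Polynomial C).coeff (d - (t e).1.1) * (t e).1.2 by
          conv_lhs => rw [show d = (d - (t e).1.1) + (t e).1.1 by omega]
          rw [Polynomial.coeff_mul_monomial], rey_mul α (t e).2.2.2]
        refine S.mul_mem (ih _ ?_ _ (rey_mem_sub α (hN _) (hcoef _ (q e).2 _)) (hrey _))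
          (Algebra.subset_adjoin (Or.inr (Finset.mem_image.2 ⟨e, Finset.mem_univ _, rfl⟩)))
        have := (t e).2.1
        omega
      · rw [← Polynomial.C_mul_X_pow_eq_monomial, ← mul_assoc, Polynomial.coeff_mul_X_pow', if_neg hle, map_zero]
        exact S.zero_mem
  have htop : c ∈ ⨆ d, N d := by
    have hc' : c ∈ Algebra.adjoin A (g : Set C) := hg ▸ Algebra.mem_top
    clear hc
    induction hc' using Algebra.adjoin_induction with
    | mem v hv => exact Submodule.mem_iSup_of_mem 1 (hN1 _ (Submodule.mem_iSup_of_mem ⟨v, hv⟩ (hUmem ⟨v, hv⟩)))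
    | algebraMap r => exact Submodule.mem_iSup_of_mem 0 (hN0 r)
    | add x y _ _ hx hy => exact add_mem hx hy
    | mul x y _ _ hx hy =>
      have h := Submodule.mul_mem_mul hx hy
      rw [Submodule.iSup_mul] at h
      refine (iSup_le fun i => ?_ : (⨆ i, N i * ⨆ d, N d) ≤ ⨆ d, N d) h
      rw [Submodule.mul_iSup]
      exact iSup_le fun j => (Submodule.mul_le.2 (hmul i j)).trans (le_iSup N (i + j))
  rw [← rey_fixed α h1 hc]
  refine (iSup_le fun d x hx => ?_ : (⨆ d, N d) ≤ (Subalgebra.toSubmodule S).comap (rey α C)) htop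
  exact main d _ (rey_mem_sub α (hN d) hx) (hrey x)

end GrothLib.LunaFin
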